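import Groth.Prelude.Def_W4c3severiratdpLat
import Mathlib

/-! Counting conic classes. -/

set_option autoImplicit false

open W4c3severiratdp

namespace Groth.Agent.ConicCount

/-- integers in `[-11, 11]` -/
def cand : List ℤ := (List.range 23).map fun i : ℕ => (i : ℤ) - 11

/-- number of vectors with given sum and sum of squares -/
def cnt : ℕ → ℤ → ℤ → ℕ
  | 0, s, q => if s = 0 ∧ q = 0 then 1 else 0
  | n + 1, s, q => if q < 0 ∨ (n + 1 : ℤ) * q < s * s then 0
      else (cand.map fun b => cnt n (s - b) (q - b * b)).sum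

/-- the vectors counted by `cnt` -/
abbrev S (n : ℕ) (s q : ℤ) := {v : Fin n → ℤ // (∑ i, v i) = s ∧ (∑ i, v i * v i) = q}

theorem mem_cand {b : ℤ} (h : b * b ≤ 121) : b ∈ cand.toFinset := by
  have h1 : -11 ≤ b := by nlinarith
  have h2 : b ≤ 11 := by nlinarith
  rw [List.mem_toFinset, cand]
  refine List.mem_map.2 ⟨(b + 11).toNat, List.mem_range.2 ?_, ?_⟩
  · omega
  · omega

theorem sum_cand {M : Type*} [AddCommMonoid M] (f : ℤ → M) :
    (cand.map f).sum = ∑ b ∈ cand.toFinset, f b :=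
  (List.sum_toFinset f (by decide)).symm

attribute [local irreducible] cand

/-- splitting off the first coordinate -/
def splitEquiv (n : ℕ) (s q : ℤ) (hq : q ≤ 121) :
    S (n + 1) s q ≃ Σ b : cand.toFinset, S n (s - b) (q - b.1 * b.1) where
  toFun v := ⟨⟨v.1 0, mem_cand (by
      have h := v.2.2
      rw [Fin.sum_univ_succ] at h
      have : 0 ≤ ∑ i : Fin n, v.1 i.succ * v.1 i.succ := Finset.sum_nonneg fun i _ => mul_self_nonneg _
      omega)⟩,
    ⟨fun i => v.1 i.succ, by have h := v.2.1; rw [Fin.sum_univ_succ] at h; simp only; omega,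
      by have h := v.2.2; rw [Fin.sum_univ_succ] at h; simp only; omega⟩⟩
  invFun w := ⟨Fin.cons w.1.1 w.2.1, by
      rw [Fin.sum_univ_succ]; simp only [Fin.cons_zero, Fin.cons_succ, w.2.2.1]; omega,
      by rw [Fin.sum_univ_succ]; simp only [Fin.cons_zero, Fin.cons_succ, w.2.2.2]; omega⟩
  left_inv v := Subtype.ext (funext fun i => by cases i using Fin.cases <;> simp)
  right_inv w := by
    obtain ⟨⟨b, hb⟩, u, hu⟩ := w
    rfl

theorem card_S : ∀ (n : ℕ) (s q : ℤ), q ≤ 121 → Finite (S n s q) ∧ Nat.card (S n s q) = cnt n s q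
  | 0, s, q, _ => by
    refine ⟨inferInstance, ?_⟩
    unfold cnt
    split_ifs with h
    · rw [Nat.card_eq_one_iff_unique]
      exact ⟨inferInstance, ⟨⟨Fin.elim0, by simp [h.1], by simp [h.2]⟩⟩⟩
    · haveI : IsEmpty (S 0 s q) := ⟨fun v => h ⟨by simpa using v.2.1.symm, by simpa using v.2.2.symm⟩⟩
      exact Nat.card_of_isEmpty
  | n + 1, s, q, hq => by
    have ih : ∀ b : cand.toFinset, Finite (S n (s - b) (q - b.1 * b.1)) ∧
        Nat.card (S n (s - b) (q - b.1 * b.1)) = cnt n (s - b) (q - b.1 * b.1) :=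
      fun b => card_S n _ _ (le_trans (sub_le_self _ (mul_self_nonneg _)) hq)
    haveI : ∀ b : cand.toFinset, Finite (S n (s - b) (q - b.1 * b.1)) := fun b => (ih b).1
    refine ⟨Finite.of_equiv _ (splitEquiv n s q hq).symm, ?_⟩
    rw [cnt]
    split_ifs with h
    · haveI : IsEmpty (S (n + 1) s q) := ⟨fun v => by
        have hcs := sq_sum_le_card_mul_sum_sq (s := (Finset.univ : Finset (Fin (n + 1)))) (f := v.1)
        have hsq : ∑ i, v.1 i ^ 2 = q :=
          (Finset.sum_congr rfl fun i _ => sq (v.1 i)).trans v.2.2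
        have hq0 : 0 ≤ q := by rw [← hsq]; exact Finset.sum_nonneg fun i _ => sq_nonneg _
        rw [hsq, v.2.1, Finset.card_univ, Fintype.card_fin, sq, Nat.cast_succ] at hcs
        rcases h with h | h
        · exact absurd hq0 (not_le.2 h)
        · exact absurd hcs (not_le.2 h)⟩
      exact Nat.card_of_isEmpty
    · calc Nat.card (S (n + 1) s q)
          = Nat.card (Σ b : cand.toFinset, S n (s - b) (q - b.1 * b.1)) := Nat.card_congr (splitEquiv n s q hq)
        _ = ∑ b : cand.toFinset, Nat.card (S n (s - b) (q - b.1 * b.1)) := Nat.card_sigma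
        _ = ∑ b : cand.toFinset, cnt n (s - b.1) (q - b.1 * b.1) := Finset.sum_congr rfl fun b _ => (ih b).2
        _ = _ := (Finset.sum_coe_sort cand.toFinset fun b => cnt n (s - b) (q - b * b)).trans (sum_cand _).symm

/-- conics by degree -/
def conicEquiv (δ : ℕ) (hδ : δ ≤ 8) :
    {v : DP δ | IsConic v} ≃ Σ a : Finset.Icc (0 : ℤ) 11, S δ (3 * a - 2) (a.1 * a.1) where
  toFun v :=
    have h1 : ∑ i : Fin δ, v.1 i.succ = 3 * v.1 0 - 2 := by
      have h := v.2.2
      simp [form, canon] at h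
      omega
    have h2 : ∑ i : Fin δ, v.1 i.succ * v.1 i.succ = v.1 0 * v.1 0 := by
      have h := v.2.1
      simp only [form] at h
      omega
    ⟨⟨v.1 0, by
      have hcs := sq_sum_le_card_mul_sum_sq (s := (Finset.univ : Finset (Fin δ))) (f := fun i => v.1 i.succ)
      have h2' : ∑ i : Fin δ, v.1 i.succ ^ 2 = v.1 0 * v.1 0 := by
        rw [← h2]; exact Finset.sum_congr rfl fun i _ => sq _
      rw [h1, h2', Finset.card_univ, Fintype.card_fin, sq] at hcs
      have hδ' : (δ : ℤ) ≤ 8 := by exact_mod_cast hδ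
      have hb := mul_le_mul_of_nonneg_right hδ' (mul_self_nonneg (v.1 0))
      rw [Finset.mem_Icc]
      refine ⟨?_, ?_⟩
      · by_contra hc
        have := mul_self_nonneg (v.1 0)
        linarith
      · by_contra hc
        have := mul_le_mul_of_nonneg_right (show (12 : ℤ) ≤ v.1 0 by omega) (show (0 : ℤ) ≤ v.1 0 by omega)
        linarith⟩,
     ⟨fun i => v.1 i.succ, h1, h2⟩⟩
  invFun w := ⟨Fin.cons w.1.1 w.2.1, by
      refine ⟨?_, ?_⟩
      · simp only [form, Fin.cons_zero, Fin.cons_succ, w.2.2.2]; omega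
      · simp [form, canon, w.2.2.1]
        omega⟩
  left_inv v := Subtype.ext (funext fun i => by cases i using Fin.cases <;> simp)
  right_inv w := by
    obtain ⟨⟨b, hb⟩, u, hu⟩ := w
    rfl

theorem ncard_eq (δ : ℕ) (hδ : δ ≤ 8) (N : ℕ)
    (h : ((List.range 12).map fun a : ℕ => cnt δ (3 * (a : ℤ) - 2) ((a : ℤ) * (a : ℤ))).sum = N) :
    {v : DP δ | IsConic v}.ncard = N := by
  have hA : ∀ a : Finset.Icc (0 : ℤ) 11, (a.1 * a.1 : ℤ) ≤ 121 := fun a => by
    have := Finset.mem_Icc.1 a.2; nlinarith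
  haveI : ∀ a : Finset.Icc (0 : ℤ) 11, Finite (S δ (3 * a - 2) (a.1 * a.1)) := fun a => (card_S δ _ _ (hA a)).1
  rw [← Nat.card_coe_set_eq, Nat.card_congr (conicEquiv δ hδ), Nat.card_sigma,
    Finset.sum_congr rfl fun a _ => (card_S δ _ _ (hA a)).2,
    Finset.sum_coe_sort (Finset.Icc (0 : ℤ) 11) fun a => cnt δ (3 * a - 2) (a * a), ← h,
    ← List.sum_toFinset _ (List.nodup_range), List.toFinset_range]
  refine (Finset.sum_bij (fun (a : ℕ) _ => (a : ℤ)) (fun a ha => ?_) (fun a _ b _ h => by omega) (fun b hb => ?_)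
    fun a _ => rfl).symm
  · simp only [Finset.mem_range] at ha; simp only [Finset.mem_Icc]; omega
  · simp only [Finset.mem_Icc] at hb
    exact ⟨b.toNat, by simp only [Finset.mem_range]; omega, by omega⟩

end Groth.Agent.ConicCount
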